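import Groth.Prelude.Def_SekSuwa2
import Mathlib

/-! Actions of `G_{μ,1}` on `G_{λ,1}` by group automorphisms are trivial. -/

set_option autoImplicit false
set_option backward.isDefEq.respectTransparency false
set_option backward.isDefEq.respectTransparency.types false

universe u

open CategoryTheory CategoryTheory.Limits AlgebraicGeometry MonoidalCategory CartesianMonoidalCategory
open SekSuwa
open scoped TensorProduct MonObj

noncomputable section

namespace SekSuwaAct

variable {R : Type u} [CommRing R] {lam : R} {p : ℕ}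

/-- The defining polynomial is monic of degree `p`. -/
theorem psiPoly_monic [IsDomain R] [Fact p.Prime] (h : DivCond lam p) :
    (psiPoly lam p h).Monic ∧ (psiPoly lam p h).natDegree = p := by
  have hp : 0 < p := (Fact.out : p.Prime).pos
  have hl : lam ≠ 0 := nonZeroDivisors.ne_zero h.nzd
  have hs := psiPoly_spec h
  have key : ∀ n, p ≤ n → (psiPoly lam p h).coeff n = if n = p then 1 else 0 := by
    intro n hn
    have hc := congrArg (fun q => Polynomial.coeff q n) hs
    simp only [Polynomial.coeff_C_mul, Polynomial.coeff_sub, Polynomial.coeff_one] at hc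
    have hX : ((1 + Polynomial.C lam * Polynomial.X) ^ p).coeff n = lam ^ n * (p.choose n : R) := by
      rw [add_comm, ← Polynomial.coeff_one_add_X_pow R p n]
      have : (Polynomial.C lam * Polynomial.X + 1) ^ p =
          ((1 + Polynomial.X) ^ p).comp (Polynomial.C lam * Polynomial.X) := by
        simp [add_comm]
      rw [this, Polynomial.comp_C_mul_X_coeff, mul_comm]
    rw [hX, if_neg (by omega : n ≠ 0), sub_zero] at hc
    split_ifs with hnp
    · subst hnp
      rw [Nat.choose_self, Nat.cast_one] at hc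
      exact mul_left_cancel₀ (pow_ne_zero _ hl) hc
    · rw [Nat.choose_eq_zero_of_lt (by omega), Nat.cast_zero, mul_zero] at hc
      exact (mul_eq_zero.mp hc).resolve_left (pow_ne_zero _ hl)
  have hd : (psiPoly lam p h).natDegree ≤ p :=
    Polynomial.natDegree_le_iff_coeff_eq_zero.mpr fun n hn => by rw [key n (le_of_lt hn), if_neg (by omega)]
  have h1 : (psiPoly lam p h).coeff p = 1 := by rw [key p le_rfl, if_pos rfl]
  have heq : (psiPoly lam p h).natDegree = p :=
    le_antisymm hd (Polynomial.le_natDegree_of_ne_zero (by rw [h1]; exact one_ne_zero))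
  exact ⟨by rw [Polynomial.Monic, Polynomial.leadingCoeff, heq, h1], heq⟩

theorem inv_eq_pow [Fact p.Prime] (h : DivCond lam p) :
    (AK.inv : AK R lam p h) = (1 + lam • AK.t) ^ (p - 1) := by
  have hp : 0 < p := (Fact.out : p.Prime).pos
  have e1 : (1 + lam • AK.t : AK R lam p h) * AK.inv = 1 := by
    have := congrArg (AK.mkHom R lam p h) (A.u_mul_inv (R := R) (lam := lam))
    rw [map_mul, map_one, A.u, map_add, map_one, map_smul] at this
    exact this
  calc (AK.inv : AK R lam p h) = (1 + lam • AK.t) ^ p * AK.inv := by rw [AK.u_pow, one_mul]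
    _ = (1 + lam • AK.t) ^ (p - 1) * ((1 + lam • AK.t) * AK.inv) := by
        rw [← mul_assoc, ← pow_succ, Nat.sub_add_cancel hp]
    _ = _ := by rw [e1, mul_one]

/-- Every element is a polynomial of degree `< p` in `t`. -/
theorem exists_aeval [IsDomain R] [Fact p.Prime] (h : DivCond lam p) (z : AK R lam p h) :
    ∃ q : Polynomial R, q.degree < (p : ℕ) ∧ Polynomial.aeval (AK.t : AK R lam p h) q = z := by
  let φ : Polynomial R →ₐ[R] AK R lam p h := Polynomial.aeval AK.t
  have ht : (AK.t : AK R lam p h) ∈ φ.range := ⟨Polynomial.X, Polynomial.aeval_X _⟩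
  have hi : (AK.inv : AK R lam p h) ∈ φ.range := by
    rw [inv_eq_pow]
    exact pow_mem (add_mem (one_mem _) (Subalgebra.smul_mem _ ht _)) _
  have hall : ∀ a : A R lam, AK.mkHom R lam p h a ∈ φ.range := by
    intro a
    obtain ⟨b, rfl⟩ := Ideal.Quotient.mk_surjective a
    change MvPolynomial (Fin 2) R at b
    induction b using MvPolynomial.induction_on with
    | C r => exact φ.range.algebraMap_mem r
    | add b c hb hc => rw [map_add, map_add]; exact add_mem hb hc
    | mul_X b i hb =>
      rw [map_mul, map_mul]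
      refine mul_mem hb ?_
      fin_cases i
      · exact ht
      · exact hi
  obtain ⟨a, rfl⟩ : ∃ a, AK.mkHom R lam p h a = z := Ideal.Quotient.mk_surjective z
  obtain ⟨q, hq⟩ := hall a
  obtain ⟨hm, hd⟩ := psiPoly_monic h
  refine ⟨q %ₘ psiPoly lam p h, ?_, ?_⟩
  · refine (Polynomial.degree_modByMonic_lt _ hm).trans_le ?_
    rw [Polynomial.degree_eq_natDegree hm.ne_zero, hd]
  · rw [Polynomial.aeval_modByMonic_eq_self_of_root (AK.aeval_t)]
    exact hq

variable (K : Type u) [Field K] [Algebra R K]

/-- The roots of `P_{λ,p}` in `K`. -/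
abbrev Z (h : DivCond lam p) : Type u := {b : K // Polynomial.aeval b (psiPoly lam p h) = 0}

theorem algebraMap_ne_zero [FaithfulSMul R K] (h : DivCond lam p) [Nontrivial R] : algebraMap R K lam ≠ 0 :=
  fun e => nonZeroDivisors.ne_zero h.nzd ((FaithfulSMul.algebraMap_injective R K) (e.trans (map_zero _).symm))

theorem natCard_Z [IsAlgClosed K] [CharZero K] [FaithfulSMul R K] [Nontrivial R] [Fact p.Prime] (h : DivCond lam p) :
    Nat.card (Z K h) = p := by
  classical
  haveI : NeZero p := ⟨(Fact.out : p.Prime).ne_zero⟩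
  have hl := algebraMap_ne_zero K h
  let e : Z K h ≃ {z : K // z ∈ Polynomial.nthRootsFinset p (1 : K)} :=
    { toFun := fun b => ⟨1 + algebraMap R K lam * b.1, by
        rw [Polynomial.mem_nthRootsFinset (NeZero.pos p)]
        exact sub_eq_zero.mp (by rw [← aeval_psiPoly h, b.2, mul_zero])⟩
      invFun := fun z => ⟨(z.1 - 1) / algebraMap R K lam, by
        have := aeval_psiPoly h ((z.1 - 1) / algebraMap R K lam : K)
        rw [mul_div_cancel₀ _ hl, add_sub_cancel, (Polynomial.mem_nthRootsFinset (NeZero.pos p) _).mp z.2,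
          sub_self, map_pow] at this
        exact (mul_eq_zero.mp this).resolve_left (pow_ne_zero _ hl)⟩
      left_inv := fun b => Subtype.ext (by simp [hl])
      right_inv := fun z => Subtype.ext (by simp [mul_div_cancel₀ _ hl]) }
  haveI : HasEnoughRootsOfUnity K p := inferInstance
  obtain ⟨ζ, hζ⟩ := HasEnoughRootsOfUnity.exists_primitiveRoot K p
  rw [Nat.card_congr e, Nat.card_eq_fintype_card, Fintype.card_coe, hζ.card_nthRootsFinset]

/-- Algebra maps are roots. -/
def algHomEquiv [Fact p.Prime] (h : DivCond lam p) : (AK R lam p h →ₐ[R] K) ≃ Z K h := by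
  refine Equiv.ofBijective (fun f => ⟨f AK.t, by rw [Polynomial.aeval_algHom_apply, AK.aeval_t, map_zero]⟩) ⟨?_, ?_⟩
  · intro f g e
    have e' : f AK.t = g AK.t := congrArg Subtype.val e
    refine AK.algHom_ext e' ?_
    rw [inv_eq_pow h]
    simp [e']
  · rintro ⟨b, hb⟩
    have hp : 0 < p := (Fact.out : p.Prime).pos
    have h1 : (1 + algebraMap R K lam * b) ^ p = 1 := sub_eq_zero.mp (by rw [← aeval_psiPoly h, hb, mul_zero])
    have hc : (1 + lam • b) * (1 + algebraMap R K lam * b) ^ (p - 1) = 1 := by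
      rw [Algebra.smul_def, ← pow_succ', Nat.sub_add_cancel hp, h1]
    let f₀ : A R lam →ₐ[R] K := A.lift R lam b ((1 + algebraMap R K lam * b) ^ (p - 1)) hc
    have h0 : ∀ a ∈ kerIdeal lam p h, f₀ a = 0 := by
      intro a ha
      obtain ⟨c, rfl⟩ := Ideal.mem_span_singleton'.mp ha
      rw [map_mul, kerGen, ← Polynomial.aeval_algHom_apply, A.lift_t, hb, mul_zero]
    exact ⟨Ideal.Quotient.liftₐ (kerIdeal lam p h) f₀ h0, Subtype.ext (A.lift_t b _ hc)⟩

/-- `K` as an `R`-scheme. -/
abbrev KT : Over (Spec (CommRingCat.of R)) := Over.mk (Spec.map (CommRingCat.ofHom (algebraMap R K)))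

/-- Points in terms of algebra maps. -/
def ptsEquiv (h : DivCond lam p) : (KT (R := R) K ⟶ GK R lam p h) ≃ (AK R lam p h →ₐ[R] K) where
  toFun f :=
    { (Spec.preimage (show Spec (CommRingCat.of K) ⟶ Spec (CommRingCat.of (AK R lam p h)) from f.left)).hom with
      commutes' := fun r => by
        have hw : CommRingCat.ofHom (algebraMap R (AK R lam p h)) ≫
            Spec.preimage (show Spec (CommRingCat.of K) ⟶ Spec (CommRingCat.of (AK R lam p h)) from f.left) =
            CommRingCat.ofHom (algebraMap R K) := by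
          apply Spec.map_injective
          rw [Spec.map_comp, Spec.map_preimage]
          exact Over.w f
        exact congrArg (fun φ => φ.hom r) hw }
  invFun φ := Over.homMk (Spec.map (CommRingCat.ofHom φ.toRingHom)) (by
    change Spec.map _ ≫ Spec.map (CommRingCat.ofHom (algebraMap R (AK R lam p h))) = Spec.map _
    rw [← Spec.map_comp, ← CommRingCat.ofHom_comp]
    exact congrArg (fun q => Spec.map (CommRingCat.ofHom q)) φ.comp_algebraMap)
  left_inv f := Over.OverMorphism.ext (Spec.map_preimage _)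
  right_inv φ := AlgHom.ext fun z => by
    change (Spec.preimage (Spec.map (CommRingCat.ofHom φ.toRingHom))).hom z = φ z
    rw [Spec.preimage_map]
    rfl

theorem natCard_pts [IsAlgClosed K] [CharZero K] [FaithfulSMul R K] [Nontrivial R] [Fact p.Prime] (h : DivCond lam p) :
    Nat.card (KT (R := R) K ⟶ GK R lam p h) = p := by
  rw [Nat.card_congr ((ptsEquiv K h).trans (algHomEquiv K h)), natCard_Z K h]

variable {mu : R}

/-- An automorphic action is trivial on `K`-points. -/
theorem trivial_on_pts [IsAlgClosed K] [CharZero K] [FaithfulSMul R K] [Nontrivial R] [Fact p.Prime]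
    (h₁ : DivCond lam p) (h₂ : DivCond mu p)
    (a : AlgGrp.Action (GK R mu p h₂) (GK R lam p h₁))
    (hmul : ∀ (T : Over (Spec (CommRingCat.of R))) (g : T ⟶ GK R mu p h₂)
      (x y : T ⟶ GK R lam p h₁), lift g (x * y) ≫ a.act = (lift g x ≫ a.act) * (lift g y ≫ a.act))
    (g : KT (R := R) K ⟶ GK R mu p h₂) (x : KT (R := R) K ⟶ GK R lam p h₁) :
    lift g x ≫ a.act = x := by
  let σ : (KT (R := R) K ⟶ GK R mu p h₂) → (KT (R := R) K ⟶ GK R lam p h₁) →* (KT (R := R) K ⟶ GK R lam p h₁) :=
    fun g => MonoidHom.mk' (fun x => lift g x ≫ a.act) (hmul _ g)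
  have hone : ∀ x, σ 1 x = x := by
    intro x
    change lift (1 : _ ⟶ GK R mu p h₂) x ≫ a.act = x
    have e : lift (1 : KT (R := R) K ⟶ GK R mu p h₂) x =
        lift (toUnit _) x ≫ (η[GK R mu p h₂] ▷ GK R lam p h₁) := by
      rw [lift_whiskerRight]; rfl
    rw [e, Category.assoc, a.one_act]
    simp
  have hcomp : ∀ g g' x, σ (g * g') x = σ g (σ g' x) := by
    intro g g' x
    change lift (g * g') x ≫ a.act = lift g (lift g' x ≫ a.act) ≫ a.act
    have e : lift (g * g') x = lift (lift g g') x ≫ (μ[GK R mu p h₂] ▷ GK R lam p h₁) := by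
      rw [lift_whiskerRight]; rfl
    rw [e, Category.assoc, a.mul_act, lift_lift_associator_hom_assoc, lift_whiskerLeft_assoc]
  change σ g x = x
  by_cases hx : x = 1
  · rw [hx, map_one]
  have hX := natCard_pts K h₁
  have hG := natCard_pts K h₂
  haveI : Finite (KT (R := R) K ⟶ GK R lam p h₁) := Nat.finite_of_card_ne_zero (by rw [hX]; exact (Fact.out : p.Prime).ne_zero)
  obtain ⟨k, hk⟩ := mem_powers_iff_mem_zpowers.mpr (mem_zpowers_of_prime_card (g := x) (g' := σ g x) hX hx)
  have hn : ∀ n : ℕ, σ (g ^ n) x = x ^ (k ^ n) := by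
    intro n
    induction n with
    | zero => rw [pow_zero, pow_zero, pow_one, hone]
    | succ n ih => rw [pow_succ', hcomp, ih, map_pow, ← hk, ← pow_mul, pow_succ' k n]
  have hgp : g ^ p = 1 := orderOf_dvd_iff_pow_eq_one.mp ((orderOf_dvd_natCard g).trans (dvd_of_eq hG))
  have hord : orderOf x = p := orderOf_eq_prime (orderOf_dvd_iff_pow_eq_one.mp ((orderOf_dvd_natCard x).trans (dvd_of_eq hX))) hx
  have e := hn p
  rw [hgp, hone] at e
  have hmod : (k ^ p : ℕ) ≡ 1 [MOD p] := by
    rw [← hord, ← pow_eq_pow_iff_modEq, pow_one, hord]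
    exact e.symm
  rw [← ZMod.natCast_eq_natCast_iff, Nat.cast_pow, ZMod.pow_card, ← Nat.cast_one, ZMod.natCast_eq_natCast_iff] at hmod
  rw [← hk]
  change x ^ k = x
  conv_rhs => rw [← pow_one x]
  rw [pow_eq_pow_iff_modEq, hord]
  exact hmod

/-- Elements of the tensor product are separated by `K`-points. -/
theorem eq_zero_of_points [IsDomain R] [IsAlgClosed K] [CharZero K] [FaithfulSMul R K] [Fact p.Prime]
    (h₁ : DivCond lam p) (h₂ : DivCond mu p) (e : AK R mu p h₂ ⊗[R] AK R lam p h₁)
    (he : ∀ (f : AK R mu p h₂ →ₐ[R] K) (g : AK R lam p h₁ →ₐ[R] K), Algebra.TensorProduct.productMap f g e = 0) :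
    e = 0 := by
  obtain ⟨b, rfl⟩ : ∃ b : Fin p → AK R mu p h₂, ∑ j, b j ⊗ₜ[R] ((AK.t : AK R lam p h₁) ^ (j : ℕ)) = e := by
    clear he
    induction e using TensorProduct.induction_on with
    | zero => exact ⟨0, by simp⟩
    | add e e' he he' =>
      obtain ⟨b, rfl⟩ := he
      obtain ⟨b', rfl⟩ := he'
      exact ⟨b + b', by simp [TensorProduct.add_tmul, Finset.sum_add_distrib]⟩
    | tmul x y =>
      obtain ⟨q, hq, rfl⟩ := exists_aeval h₁ y
      refine ⟨fun j => q.coeff j • x, ?_⟩
      have hqn : q.natDegree < p := by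
        rcases eq_or_ne q 0 with rfl | hq0
        · simpa using (Fact.out : p.Prime).pos
        · exact (Polynomial.natDegree_lt_iff_degree_lt hq0).mpr hq
      rw [Polynomial.aeval_eq_sum_range' (n := p) hqn, Finset.sum_range, TensorProduct.tmul_sum]
      exact Finset.sum_congr rfl fun j _ => TensorProduct.smul_tmul (q.coeff (j : ℕ)) x (AK.t ^ (j : ℕ))
  have hroots : ∀ {nu : R} (h : DivCond nu p) (q : Polynomial K), q.degree < (p : ℕ) →
      (∀ z : Z K h, q.eval z.1 = 0) → q = 0 := by
    intro nu h q hq hz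
    haveI : Finite (Z K h) := Nat.finite_of_card_ne_zero (by rw [natCard_Z K h]; exact (Fact.out : p.Prime).ne_zero)
    haveI := Fintype.ofFinite (Z K h)
    classical
    refine Polynomial.eq_zero_of_degree_lt_of_eval_finset_eq_zero ((Finset.univ : Finset (Z K h)).image Subtype.val) ?_ ?_
    · rw [Finset.card_image_of_injective _ Subtype.val_injective, Finset.card_univ, ← Nat.card_eq_fintype_card,
        natCard_Z K h]
      exact hq
    · simp only [Finset.mem_image, Finset.mem_univ, true_and]
      rintro x ⟨z, rfl⟩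
      exact hz z
  have hb : ∀ j, b j = 0 := by
    intro j
    obtain ⟨q, hq, hqe⟩ := exists_aeval h₂ (b j)
    suffices q.map (algebraMap R K) = 0 by
      rw [← hqe, (Polynomial.map_eq_zero_iff (FaithfulSMul.algebraMap_injective R K)).mp this, map_zero]
    refine hroots h₂ _ (lt_of_le_of_lt Polynomial.degree_map_le hq) fun z => ?_
    obtain ⟨f, hf⟩ := (algHomEquiv K h₂).surjective z
    have hfz : f AK.t = z.1 := congrArg Subtype.val hf
    rw [Polynomial.eval_map, ← Polynomial.aeval_def, ← hfz, Polynomial.aeval_algHom_apply, hqe]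
    have hsum : ∀ w : Z K h₁, (∑ i : Fin p, Polynomial.C (f (b i)) * Polynomial.X ^ (i : ℕ)).eval w.1 = 0 := by
      intro w
      obtain ⟨g, hg⟩ := (algHomEquiv K h₁).surjective w
      have hgw : g AK.t = w.1 := congrArg Subtype.val hg
      have := he f g
      simp only [map_sum, Algebra.TensorProduct.productMap_apply_tmul, map_pow, hgw] at this
      simp only [Polynomial.eval_finsetSum, Polynomial.eval_mul, Polynomial.eval_C, Polynomial.eval_pow, Polynomial.eval_X]
      exact this
    have h0 := hroots h₁ _ (Polynomial.degree_sum_fin_lt _) hsum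
    have := congrArg (fun r => Polynomial.coeff r (j : ℕ)) h0
    simpa [Polynomial.finsetSum_coeff, Polynomial.coeff_C_mul, Polynomial.coeff_X_pow, Fin.val_inj] using this
  simp [hb]

theorem action_trivial [IsDomain R] [CharZero R] [Fact p.Prime] (h₁ : DivCond lam p) (h₂ : DivCond mu p)
    (a : AlgGrp.Action (GK R mu p h₂) (GK R lam p h₁))
    (hmul : ∀ (T : Over (Spec (CommRingCat.of R))) (g : T ⟶ GK R mu p h₂)
      (x y : T ⟶ GK R lam p h₁), lift g (x * y) ≫ a.act = (lift g x ≫ a.act) * (lift g y ≫ a.act))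
    (T : Over (Spec (CommRingCat.of R))) (g : T ⟶ GK R mu p h₂) (x : T ⟶ GK R lam p h₁) :
    lift g x ≫ a.act = x := by
  suffices a.act = snd (GK R mu p h₂) (GK R lam p h₁) by rw [this, lift_snd]
  let K := AlgebraicClosure (FractionRing R)
  haveI : FaithfulSMul R K := (faithfulSMul_iff_algebraMap_injective R K).mpr (by
    rw [IsScalarTower.algebraMap_eq R (FractionRing R) K]
    exact (algebraMap (FractionRing R) K).injective.comp (IsFractionRing.injective R (FractionRing R)))
  haveI : CharZero K := charZero_of_injective_algebraMap (FaithfulSMul.algebraMap_injective R K)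
  apply Over.OverMorphism.ext
  let e : (GK R mu p h₂ ⊗ GK R lam p h₁).left ≅ Spec (CommRingCat.of (AK R mu p h₂ ⊗[R] AK R lam p h₁)) :=
    pullbackSpecIso R (AK R mu p h₂) (AK R lam p h₁)
  rw [← cancel_epi e.inv]
  let L : Spec (CommRingCat.of (AK R mu p h₂ ⊗[R] AK R lam p h₁)) ⟶ Spec (CommRingCat.of (AK R lam p h₁)) :=
    e.inv ≫ a.act.left
  let L' : Spec (CommRingCat.of (AK R mu p h₂ ⊗[R] AK R lam p h₁)) ⟶ Spec (CommRingCat.of (AK R lam p h₁)) :=
    e.inv ≫ (snd (GK R mu p h₂) (GK R lam p h₁)).left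
  change L = L'
  rw [← Spec.map_preimage L, ← Spec.map_preimage L']
  congr 1
  refine CommRingCat.hom_ext (RingHom.ext fun z => sub_eq_zero.mp (eq_zero_of_points K h₁ h₂ _ fun f f' => ?_))
  rw [map_sub, sub_eq_zero]
  let q : CommRingCat.of (AK R mu p h₂ ⊗[R] AK R lam p h₁) ⟶ CommRingCat.of K :=
    CommRingCat.ofHom (Algebra.TensorProduct.productMap f f').toRingHom
  suffices Spec.map q ≫ L = Spec.map q ≫ L' by
    rw [← Spec.map_preimage L, ← Spec.map_preimage L', ← Spec.map_comp, ← Spec.map_comp] at this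
    exact congrArg (fun φ => φ.hom z) (Spec.map_injective this)
  let g₀ : KT (R := R) K ⟶ GK R mu p h₂ := (ptsEquiv K h₂).symm f
  let x₀ : KT (R := R) K ⟶ GK R lam p h₁ := (ptsEquiv K h₁).symm f'
  have hq : Spec.map q ≫ e.inv = (lift g₀ x₀).left := by
    apply pullback.hom_ext
    · rw [Category.assoc]
      erw [pullbackSpecIso_inv_fst]
      rw [← Spec.map_comp]
      refine Eq.trans ?_ (pullback.lift_fst _ _ ((Over.w g₀).trans (Over.w x₀).symm)).symm
      exact congrArg (fun r => Spec.map (CommRingCat.ofHom r)) (RingHom.ext fun y => by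
        change Algebra.TensorProduct.productMap f f' (y ⊗ₜ[R] (1 : AK R lam p h₁)) = f y
        simp)
    · rw [Category.assoc]
      erw [pullbackSpecIso_inv_snd]
      rw [← Spec.map_comp]
      refine Eq.trans ?_ (pullback.lift_snd _ _ ((Over.w g₀).trans (Over.w x₀).symm)).symm
      exact congrArg (fun r => Spec.map (CommRingCat.ofHom r)) (RingHom.ext fun y => by
        change Algebra.TensorProduct.productMap f f' ((1 : AK R mu p h₂) ⊗ₜ[R] y) = f' y
        simp)
  simp only [L, L', ← Category.assoc, hq, ← Over.comp_left]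
  rw [trivial_on_pts K h₁ h₂ a hmul g₀ x₀, lift_snd]

end SekSuwaAct
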